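import Mathlib.RingTheory.Localization.AtPrime.Basic
import Mathlib.RingTheory.Spectrum.Maximal.Localization
import Mathlib.RingTheory.Localization.BaseChange
import Mathlib.RingTheory.Localization.Submodule
import Mathlib.RingTheory.TensorProduct.Maps
import Mathlib.RingTheory.Noetherian.Basic

/-! Gluing algebras given at finitely many maximal ideals. -/

set_option autoImplicit false
set_option linter.unusedSectionVars false
set_option linter.style.haveILetI false

universe u

open scoped TensorProduct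

namespace Groth.Agent.Glue50

variable {A : Type u} [CommRing A] [IsNoetherianRing A] {r : ℕ} (m : Fin r → Ideal A) [hm : ∀ i, (m i).IsMaximal]
  (B : Fin r → Type u) [∀ i, CommRing (B i)] [∀ i, Algebra A (B i)]
  [∀ i, Algebra (Localization.AtPrime (m i)) (B i)] [∀ i, IsScalarTower A (Localization.AtPrime (m i)) (B i)]

/-- The other maximal ideals. -/
abbrev Others : Type u := {p : MaximalSpectrum A // ∀ i, p.asIdeal ≠ m i}

/-- The ambient product. -/
abbrev Amb : Type u :=
  ((i : Fin r) → B i) × ((p : Others m) → Localization.AtPrime p.1.asIdeal)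

/-- The saturation of `A` in the product. -/
def glue : Subalgebra A (Amb m B) where
  carrier := {x | ∃ N : ℕ, ∀ y ∈ (⨅ i, m i) ^ N, y • x ∈ (Algebra.ofId A (Amb m B)).range}
  mul_mem' := by
    rintro x x' ⟨N, hx⟩ ⟨N', hx'⟩
    refine ⟨N + N', fun y hy => ?_⟩
    rw [pow_add] at hy
    induction hy using Submodule.mul_induction_on' with
    | mem_mul_mem a ha b hb => rw [← smul_mul_smul_comm]; exact mul_mem (hx a ha) (hx' b hb)
    | add a _ b _ ha hb => rw [add_smul]; exact add_mem ha hb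
  add_mem' := by
    rintro x x' ⟨N, hx⟩ ⟨N', hx'⟩
    refine ⟨N + N', fun y hy => ?_⟩
    rw [smul_add]
    exact add_mem (hx y (Ideal.pow_le_pow_right (Nat.le_add_right N N') hy))
      (hx' y (Ideal.pow_le_pow_right (Nat.le_add_left N' N) hy))
  algebraMap_mem' a := ⟨0, fun y _ => by
    rw [Algebra.smul_def, ← map_mul]
    exact ⟨y * a, rfl⟩⟩

variable {m B}

theorem range_iff {x : Amb m B} :
    x ∈ (Algebra.ofId A (Amb m B)).range ↔ ∃ a : A, algebraMap A (Amb m B) a = x := Iff.rfl

theorem exists_notMem (hinj : Function.Injective m) {i j : Fin r} (h : j ≠ i) : ∃ u ∈ m j, u ∉ m i :=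
  SetLike.not_le_iff_exists.1 fun hle => h (hinj ((hm j).eq_of_le (hm i).ne_top hle))

theorem unit_B {i : Fin r} {a : A} (ha : a ∉ m i) : IsUnit (algebraMap A (B i) a) := by
  rw [IsScalarTower.algebraMap_apply A (Localization.AtPrime (m i)) (B i)]
  exact (IsLocalization.map_units (Localization.AtPrime (m i)) (⟨a, ha⟩ : (m i).primeCompl)).map _

theorem exists_U (hinj : Function.Injective m) (j : Fin r) :
    ∃ U, U ∉ m j ∧ ∀ u ∈ m j, u * U ∈ ⨅ i, m i := by
  classical
  choose u hu hu' using fun (k : {k : Fin r // k ≠ j}) => exists_notMem (m := m) hinj (i := j) k.2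
  refine ⟨∏ k, u k, fun h => ?_, fun v hv => Ideal.mem_iInf.2 fun i => ?_⟩
  · obtain ⟨k, -, hk⟩ := (Ideal.IsPrime.prod_mem_iff (hp := (hm j).isPrime)).1 h
    exact hu' k hk
  · by_cases h : i = j
    · subst h; exact Ideal.mul_mem_right _ _ hv
    · exact Ideal.mul_mem_left _ _ (Ideal.prod_mem _ (Finset.mem_univ (⟨i, h⟩ : {k : Fin r // k ≠ j})) (hu ⟨i, h⟩))

theorem exists_avoid (hinj : Function.Injective m) (i : Fin r) (N : ℕ) :
    ∃ T, T ∉ m i ∧ ∀ j, j ≠ i → T ∈ m j ^ N := by
  classical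
  choose u hu hu' using fun (k : {k : Fin r // k ≠ i}) => exists_notMem (m := m) hinj (i := i) k.2
  refine ⟨∏ k, u k ^ N, fun h => ?_, fun j hj => ?_⟩
  · obtain ⟨k, -, hk⟩ := (Ideal.IsPrime.prod_mem_iff (hp := (hm i).isPrime)).1 h
    exact hu' k ((hm i).isPrime.mem_of_pow_mem _ hk)
  · exact Ideal.prod_mem _ (Finset.mem_univ (⟨j, hj⟩ : {k : Fin r // k ≠ i})) (Ideal.pow_mem_pow (hu ⟨j, hj⟩) N)

/-- An element killed at all points by a power of the ideal. -/
theorem eq_zero_of_killed (hinj : Function.Injective m) {i : Fin r} {w : Amb m B} (N : ℕ) (T : A)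
    (hTi : w.1 i = 0) (hTj : ∀ j, j ≠ i → T ∈ m j ^ N) (hkill : ∀ y ∈ (⨅ k, m k) ^ N, y • w = 0) :
    T • w = 0 := by
  refine Prod.ext (funext fun j => ?_) (funext fun p => ?_)
  · by_cases hji : j = i
    · subst hji; show T • w.1 j = 0; rw [hTi, smul_zero]
    obtain ⟨U, hU, hUm⟩ := exists_U (m := m) hinj j
    have hle : T * U ^ N ∈ (⨅ k, m k) ^ N := by
      have hle' : m j * Ideal.span {U} ≤ ⨅ k, m k := by
        rw [Ideal.mul_le]
        intro a ha b hb
        obtain ⟨c, rfl⟩ := Ideal.mem_span_singleton'.1 hb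
        rw [mul_left_comm]
        exact Ideal.mul_mem_left _ _ (hUm a ha)
      refine Ideal.pow_right_mono hle' N ?_
      rw [mul_pow, Ideal.span_singleton_pow]
      exact Ideal.mul_mem_mul (hTj j hji) (Ideal.mem_span_singleton_self _)
    have h := congrArg (fun z : Amb m B => z.1 j) (hkill _ hle)
    change (T * U ^ N) • w.1 j = 0 at h
    rw [mul_comm, mul_smul, Algebra.smul_def] at h
    exact ((unit_B (m := m) (B := B) fun hh => hU ((hm j).isPrime.mem_of_pow_mem _ hh)).mul_right_eq_zero).1 h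
  · obtain ⟨y, hy, hyp⟩ : ∃ y ∈ (⨅ k, m k) ^ N, y ∉ p.1.asIdeal := by
      refine SetLike.not_le_iff_exists.1 fun hle => ?_
      obtain ⟨k, hk⟩ : ∃ k, m k ≤ p.1.asIdeal := by
        have h1 : (⨅ k, m k) ≤ p.1.asIdeal := p.1.isMaximal.isPrime.le_of_pow_le hle
        rw [← Finset.inf_univ_eq_iInf] at h1
        obtain ⟨k, -, hk⟩ := (Ideal.IsPrime.inf_le' p.1.isMaximal.isPrime).1 h1
        exact ⟨k, hk⟩
      exact p.2 k ((hm k).eq_of_le p.1.isMaximal.ne_top hk).symm
    have h := congrArg (fun z : Amb m B => z.2 p) (hkill _ hy)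
    change y • w.2 p = 0 at h
    show T • w.2 p = 0
    rw [Algebra.smul_def] at h
    rw [((IsLocalization.map_units (Localization.AtPrime p.1.asIdeal) (⟨y, hyp⟩ : p.1.asIdeal.primeCompl)).mul_right_eq_zero).1 h,
      smul_zero]

variable (hinj : Function.Injective m)
  (n : ℕ) (hker : ∀ i (x : Localization.AtPrime (m i)), algebraMap (Localization.AtPrime (m i)) (B i) x = 0 →
    ∀ y ∈ m i ^ n, y • x = 0)
  (hcok : ∀ i (y : A), y ∈ m i ^ n → ∀ b : B i, y • b ∈ (algebraMap (Localization.AtPrime (m i)) (B i)).range)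

include hinj hker in
/-- Elements of `A` dying at `i`. -/
theorem exists_kill_range {i : Fin r} {a : A} (h : algebraMap A (B i) a = 0) :
    ∃ t, t ∉ m i ∧ t • algebraMap A (Amb m B) a = 0 := by
  classical
  rw [IsScalarTower.algebraMap_apply A (Localization.AtPrime (m i)) (B i)] at h
  have hk := hker i _ h
  obtain ⟨s, hs⟩ := (IsNoetherian.noetherian (m i ^ n) : (m i ^ n).FG)
  have hex : ∀ y ∈ s, ∃ t : (m i).primeCompl, (t : A) * (y * a) = 0 := fun y hy => by
    refine (IsLocalization.map_eq_zero_iff (m i).primeCompl (Localization.AtPrime (m i)) _).1 ?_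
    rw [map_mul, ← Algebra.smul_def]
    exact hk y (hs ▸ Submodule.subset_span hy)
  choose t ht using hex
  let T0 : (m i).primeCompl := ∏ y ∈ s.attach, t y.1 y.2
  have hT0 : ∀ y ∈ m i ^ n, (T0 : A) * (y * a) = 0 := by
    intro y hy
    rw [← hs] at hy
    induction hy using Submodule.span_induction with
    | mem y hy =>
      obtain ⟨c, hc⟩ : (t y hy : A) ∣ (T0 : A) := by
        simp only [T0, Submonoid.coe_finsetProd]
        exact Finset.dvd_prod_of_mem (fun z : {z // z ∈ s} => (t z.1 z.2 : A)) (Finset.mem_attach s ⟨y, hy⟩)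
      rw [hc, mul_comm (t y hy : A) c, mul_assoc, ht y hy, mul_zero]
    | zero => simp
    | add x z _ _ hx hz => rw [add_mul, mul_add, hx, hz, add_zero]
    | smul c x _ hx => rw [smul_eq_mul, mul_assoc, mul_left_comm, hx, mul_zero]
  obtain ⟨T, hT, hTj⟩ := exists_avoid (m := m) hinj i n
  refine ⟨T * T0, fun hh => ((hm i).isPrime.mem_or_mem hh).elim hT T0.2, ?_⟩
  rw [mul_smul]
  refine eq_zero_of_killed (i := i) hinj n T ?_ hTj fun y hy => ?_
  · show (T0 : A) • algebraMap A (B i) a = 0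
    rw [IsScalarTower.algebraMap_apply A (Localization.AtPrime (m i)) (B i), h, smul_zero]
  · rw [smul_smul, Algebra.smul_def, ← map_mul, mul_assoc, mul_left_comm,
      hT0 y (Ideal.pow_right_mono (iInf_le m i) n hy), map_zero]

include hinj hker in
/-- Elements of the glued algebra dying at `i`. -/
theorem exists_kill {i : Fin r} {w : Amb m B} (hw : w ∈ glue m B) (h : w.1 i = 0) :
    ∃ t, t ∉ m i ∧ t • w = 0 := by
  classical
  obtain ⟨N, hN⟩ := hw
  obtain ⟨s, hs⟩ := (IsNoetherian.noetherian ((⨅ k, m k) ^ N) : ((⨅ k, m k) ^ N).FG)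
  have hex : ∀ y ∈ s, ∃ t : (m i).primeCompl, (t : A) • (y • w) = 0 := fun y hy => by
    obtain ⟨a, ha⟩ := range_iff.1 (hN y (hs ▸ Submodule.subset_span hy))
    have h0 : algebraMap A (B i) a = 0 := by
      have := congrArg (fun z : Amb m B => z.1 i) ha
      change algebraMap A (B i) a = y • w.1 i at this
      rw [this, h, smul_zero]
    obtain ⟨t, ht, ht0⟩ := exists_kill_range hinj n hker h0
    exact ⟨⟨t, ht⟩, ha ▸ ht0⟩
  choose t ht using hex
  let T0 : (m i).primeCompl := ∏ y ∈ s.attach, t y.1 y.2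
  obtain ⟨T, hT, hTj⟩ := exists_avoid (m := m) hinj i N
  refine ⟨T * T0, fun hh => ((hm i).isPrime.mem_or_mem hh).elim hT T0.2, ?_⟩
  rw [mul_smul]
  refine eq_zero_of_killed (i := i) hinj N T (by show (T0 : A) • w.1 i = 0; rw [h, smul_zero]) hTj fun y hy => ?_
  rw [← hs] at hy
  induction hy using Submodule.span_induction with
  | mem y hy =>
    obtain ⟨c, hc⟩ : (t y hy : A) ∣ (T0 : A) := by
      simp only [T0, Submonoid.coe_finsetProd]
      exact Finset.dvd_prod_of_mem (fun z : {z // z ∈ s} => (t z.1 z.2 : A)) (Finset.mem_attach s ⟨y, hy⟩)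
    rw [smul_smul, hc, show y * ((t y hy : A) * c) = c * ((t y hy : A) * y) by ring, mul_smul, mul_smul, ht y hy,
      smul_zero]
  | zero => simp
  | add x z _ _ hx hz => rw [add_smul, hx, hz, add_zero]
  | smul c x _ hx => rw [smul_eq_mul, mul_smul, hx, smul_zero]

theorem exists_frac {i : Fin r} {b : B i} (hb : b ∈ (algebraMap (Localization.AtPrime (m i)) (B i)).range) :
    ∃ (a s : A), s ∉ m i ∧ s • b = algebraMap A (B i) a := by
  obtain ⟨x, rfl⟩ := hb
  obtain ⟨a, s, rfl⟩ := IsLocalization.exists_mk'_eq (m i).primeCompl x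
  refine ⟨a, s, s.2, ?_⟩
  rw [Algebra.smul_def, IsScalarTower.algebraMap_apply A (Localization.AtPrime (m i)) (B i), ← map_mul, mul_comm,
    IsLocalization.mk'_spec, ← IsScalarTower.algebraMap_apply]

include hinj hker hcok in
/-- Local elements come from the glued algebra up to units. -/
theorem exists_preimage (i : Fin r) (b : B i) : ∃ x ∈ glue m B, ∃ s, s ∉ m i ∧ x.1 i = s • b := by
  classical
  obtain ⟨g, hg⟩ := (IsNoetherian.noetherian (m i ^ n) : (m i ^ n).FG)
  choose a s hs hsa using fun y : {y // y ∈ g} =>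
    exists_frac (hcok i y.1 (hg ▸ Submodule.subset_span y.2) b)
  let S := ∏ y, s y
  have hS : S ∉ m i := fun h => by
    obtain ⟨y, -, hy⟩ := (Ideal.IsPrime.prod_mem_iff (hp := (hm i).isPrime)).1 h
    exact hs y hy
  obtain ⟨a', ha'⟩ : ∃ a' : {y // y ∈ g} → A, ∀ y, algebraMap A (B i) (a' y) = (S * y.1) • b := by
    refine ⟨fun y => (∏ z ∈ Finset.univ.erase y, s z) * a y, fun y => ?_⟩
    rw [map_mul, ← hsa y, ← Algebra.smul_def, smul_smul, smul_smul,
      show S = (∏ z ∈ Finset.univ.erase y, s z) * s y from (Finset.prod_erase_mul _ _ (Finset.mem_univ y)).symm,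
      mul_assoc]
  have hk : ∀ p : {y // y ∈ g} × {y // y ∈ g}, ∃ t, t ∉ m i ∧
      t • algebraMap A (Amb m B) (p.1.1 * a' p.2 - p.2.1 * a' p.1) = 0 := fun p => by
    refine exists_kill_range hinj n hker ?_
    rw [map_sub, map_mul, map_mul, ha', ha', ← Algebra.smul_def, ← Algebra.smul_def, smul_smul, smul_smul, sub_eq_zero]
    congr 1
    ring
  choose t ht ht0 using hk
  let T := ∏ p, t p
  have hT : T ∉ m i := fun h => by
    obtain ⟨p, -, hp⟩ := (Ideal.IsPrime.prod_mem_iff (hp := (hm i).isPrime)).1 h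
    exact ht p hp
  have hcons : ∀ y z : {y // y ∈ g},
      algebraMap A (Amb m B) (y.1 * (T * a' z)) = algebraMap A (Amb m B) (z.1 * (T * a' y)) := by
    intro y z
    obtain ⟨c, hc⟩ : t (y, z) ∣ T := Finset.dvd_prod_of_mem _ (Finset.mem_univ (y, z))
    rw [← sub_eq_zero, ← map_sub, show y.1 * (T * a' z) - z.1 * (T * a' y) =
      c * (t (y, z) * (y.1 * a' z - z.1 * a' y)) by rw [hc]; ring, map_mul, map_mul (algebraMap A (Amb m B)) (t (y, z)),
      ← Algebra.smul_def (t (y, z)), ht0 (y, z), mul_zero]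
  have hout : ∀ P : Ideal A, P.IsMaximal → P ≠ m i → ∃ y : {y // y ∈ g}, y.1 ∉ P := fun P hP hne => by
    by_contra hcon
    push Not at hcon
    have : m i ^ n ≤ P := by
      rw [← hg, Submodule.span_le]
      exact fun y hy => hcon ⟨y, hy⟩
    exact hne ((hm i).eq_of_le hP.ne_top (hP.isPrime.le_of_pow_le this)).symm
  choose yp hyp using fun p : Others m => hout p.1.asIdeal p.1.isMaximal (p.2 i)
  choose yj hyj using fun j : {j : Fin r // j ≠ i} => hout (m j) (hm j) fun h => j.2 (hinj h)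
  let x : Amb m B :=
    (fun j => if hj : j = i then cast (congrArg B hj.symm) ((T * S) • b) else
        algebraMap A (B j) (T * a' (yj ⟨j, hj⟩)) * ↑(unit_B (B := B) (hyj ⟨j, hj⟩)).unit⁻¹,
      fun p => algebraMap A _ (T * a' (yp p)) *
        ↑((IsLocalization.map_units (Localization.AtPrime p.1.asIdeal) (⟨_, hyp p⟩ : p.1.asIdeal.primeCompl)).unit⁻¹))
  have hxi : x.1 i = (T * S) • b := by simp [x]
  refine ⟨x, ⟨n, fun y hy => ?_⟩, T * S, fun h => ((hm i).isPrime.mem_or_mem h).elim hT hS, hxi⟩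
  replace hy : y ∈ m i ^ n := Ideal.pow_right_mono (iInf_le m i) n hy
  rw [← hg] at hy
  induction hy using Submodule.span_induction with
  | mem y hy =>
    refine range_iff.2 ⟨T * a' ⟨y, hy⟩, Prod.ext (funext fun j => ?_) (funext fun p => ?_)⟩
    · show algebraMap A (B j) _ = y • x.1 j
      by_cases hj : j = i
      · subst hj
        rw [hxi, map_mul, ha', smul_smul, ← Algebra.smul_def, smul_smul]
        congr 1
        ring
      · show algebraMap A (B j) (T * a' ⟨y, hy⟩) = y • x.1 j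
        simp only [x, dif_neg hj]
        rw [Algebra.smul_def, ← mul_assoc, ← map_mul]
        have h : algebraMap A (B j) (y * (T * a' (yj ⟨j, hj⟩))) =
            algebraMap A (B j) ((yj ⟨j, hj⟩).1 * (T * a' ⟨y, hy⟩)) :=
          congrArg (fun z : Amb m B => z.1 j) (hcons ⟨y, hy⟩ (yj ⟨j, hj⟩))
        rw [h, map_mul _ (yj ⟨j, hj⟩).1]
        exact ((mul_right_comm _ _ _).trans (by rw [IsUnit.mul_val_inv, one_mul])).symm
    · show algebraMap A (Localization.AtPrime p.1.asIdeal) (T * a' ⟨y, hy⟩) = y • x.2 p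
      simp only [x]
      rw [Algebra.smul_def, ← mul_assoc, ← map_mul]
      have h : algebraMap A (Localization.AtPrime p.1.asIdeal) (y * (T * a' (yp p))) =
          algebraMap A (Localization.AtPrime p.1.asIdeal) ((yp p).1 * (T * a' ⟨y, hy⟩)) :=
        congrArg (fun z : Amb m B => z.2 p) (hcons ⟨y, hy⟩ (yp p))
      rw [h, map_mul _ (yp p).1]
      exact ((mul_right_comm _ _ _).trans (by rw [IsUnit.mul_val_inv, one_mul])).symm
  | zero => rw [zero_smul]; exact zero_mem _
  | add x z _ _ hx hz => rw [add_smul]; exact add_mem hx hz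
  | smul c y _ hy =>
    obtain ⟨a, ha⟩ := range_iff.1 hy
    exact range_iff.2 ⟨c * a, by rw [map_mul, ha, smul_eq_mul, mul_smul, ← Algebra.smul_def]⟩

include hinj hker in
/-- Membership can be checked at the given points. -/
theorem mem_of_local (S : Submodule A (Amb m B)) (hS : ∀ a, algebraMap A (Amb m B) a ∈ S)
    {z : Amb m B} (hz : z ∈ glue m B)
    (h : ∀ i, ∃ d ∈ S, d ∈ glue m B ∧ ∃ s, s ∉ m i ∧ d.1 i = s • z.1 i) : z ∈ S := by
  obtain ⟨N, hN⟩ := id hz
  let I : Ideal A := S.colon {z}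
  have hJ : (⨅ k, m k) ^ N ≤ I := fun y hy => by
    obtain ⟨a, ha⟩ := range_iff.1 (hN y hy)
    exact Submodule.mem_colon_singleton.2 (ha ▸ hS a)
  suffices htop : I = ⊤ by
    have := Submodule.mem_colon_singleton.1 (show (1 : A) ∈ I from htop ▸ Submodule.mem_top)
    rwa [one_smul] at this
  by_contra hne
  obtain ⟨M, hM, hle⟩ := Ideal.exists_le_maximal I hne
  obtain ⟨k, hk⟩ : ∃ k, m k ≤ M := by
    have h1 : (⨅ k, m k) ≤ M := hM.isPrime.le_of_pow_le (hJ.trans hle)
    rw [← Finset.inf_univ_eq_iInf] at h1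
    obtain ⟨k, -, hk⟩ := (Ideal.IsPrime.inf_le' hM.isPrime).1 h1
    exact ⟨k, hk⟩
  obtain rfl : m k = M := (hm k).eq_of_le hM.ne_top hk
  obtain ⟨d, hd, hdC, s, hs, hds⟩ := h k
  obtain ⟨t, ht, ht0⟩ := exists_kill hinj n hker (i := k) (w := s • z - d)
    (sub_mem (Subalgebra.smul_mem _ hz s) hdC)
    (by show s • z.1 k - d.1 k = 0; rw [hds, sub_self])
  have hmem : t * s ∈ I := by
    refine Submodule.mem_colon_singleton.2 ?_
    rw [smul_sub, sub_eq_zero] at ht0
    rw [mul_smul, ht0]
    exact S.smul_mem t hd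
  exact ((hm k).isPrime.mem_or_mem (hle hmem)).elim ht hs

/-- The projection to a point. -/
def proj (i : Fin r) : glue m B →ₐ[A] B i :=
  ((Pi.evalAlgHom A B i).comp (AlgHom.fst A _ _)).comp (glue m B).val

include hinj hker hcok in
theorem isBaseChange (i : Fin r) : IsBaseChange (Localization.AtPrime (m i)) (proj (A := A) (m := m) (B := B) i).toLinearMap := by
  haveI : IsLocalizedModule (m i).primeCompl (proj (A := A) (m := m) (B := B) i).toLinearMap :=
    { map_units := fun s => by
        rw [Module.End.isUnit_iff]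
        obtain ⟨v, hv⟩ := unit_B (m := m) (B := B) (i := i) (a := (s : A)) s.2
        constructor
        · intro x y e
          simp only [Module.algebraMap_end_apply, Algebra.smul_def, ← hv] at e
          exact v.isUnit.mul_left_cancel e
        · intro y
          exact ⟨(↑v⁻¹ : B i) * y, by
            simp only [Module.algebraMap_end_apply, Algebra.smul_def, ← hv, ← mul_assoc, Units.mul_inv, one_mul]⟩
      surj := fun b => by
        obtain ⟨x, hx, s, hs, hxs⟩ := exists_preimage hinj n hker hcok i b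
        exact ⟨⟨⟨x, hx⟩, ⟨s, hs⟩⟩, hxs.symm⟩
      exists_of_eq := fun {x y} hxy => by
        obtain ⟨t, ht, ht0⟩ := exists_kill hinj n hker (i := i) (x - y).2
          (show x.1.1 i - y.1.1 i = 0 from sub_eq_zero.2 hxy)
        refine ⟨⟨t, ht⟩, Subtype.ext ?_⟩
        show t • x.1 = t • y.1
        rw [← sub_eq_zero, ← smul_sub]
        exact ht0 }
  exact (isLocalizedModule_iff_isBaseChange (m i).primeCompl (Localization.AtPrime (m i)) _).1 inferInstance

end Groth.Agent.Glue50
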