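import Mathlib.RingTheory.Localization.AtPrime.Basic
import Mathlib.RingTheory.Localization.Away.Basic
import Mathlib.RingTheory.Localization.BaseChange
import Mathlib.RingTheory.Ideal.KrullsHeightTheorem
import Mathlib.RingTheory.TensorProduct.Maps
import Mathlib.RingTheory.Noetherian.Basic
import Mathlib.RingTheory.Finiteness.Subalgebra

/-! Gluing finite extensions given at the points of `V(t)` in a punctured spectrum. -/

set_option autoImplicit false
set_option linter.unusedSectionVars false
set_option linter.style.haveILetI false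

universe u

open scoped TensorProduct Pointwise
open IsLocalRing

namespace Groth.Agent.Glue50.Punctured

variable {A : Type u} [CommRing A] [IsNoetherianRing A] [IsLocalRing A]

/-- In dimension two the primes over a regular element other than `m` are minimal over it. -/
theorem eq_of_le (hA : ringKrullDim A = 2) {t : A} (htnz : t ∈ nonZeroDivisors A) {p q : Ideal A}
    (hp : p.IsPrime) (hq : q.IsPrime) (hqm : q ≠ maximalIdeal A) (htp : t ∈ p) (hle : p ≤ q) : p = q := by
  by_contra hne
  have h2 : (maximalIdeal A).height = 2 := by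
    have := IsLocalRing.maximalIdeal_height_eq_ringKrullDim (R := A)
    rw [hA] at this
    exact WithBot.coe_injective this
  have h1 : p.height + 1 ≤ q.height :=
    Order.add_one_le_of_lt (Ideal.height_strict_mono_of_isPrime (lt_of_le_of_ne hle hne))
  have h3 : q.height + 1 ≤ (maximalIdeal A).height :=
    Order.add_one_le_of_lt (Ideal.height_strict_mono_of_isPrime (lt_of_le_of_ne (le_maximalIdeal hq.ne_top) hqm))
  have hp0 : p.height ≠ 0 := fun h0 => by
    rw [Ideal.height_eq_zero_iff] at h0
    exact (Ideal.disjoint_nonZeroDivisors_of_mem_minimalPrimes h0).le_bot ⟨htp, htnz⟩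
  rw [h2] at h3
  have h4 : p.height + 1 + 1 ≤ 2 := (add_le_add_left h1 1).trans h3
  have hne' : p.height ≠ ⊤ := fun h => by rw [h] at h4; simp at h4
  lift p.height to ℕ using hne' with k hk
  norm_cast at h4 hp0
  omega

variable (t : A) {r : ℕ} (q : Fin r → Ideal A) [hq : ∀ i, (q i).IsPrime] (B : Fin r → Type u)
  [∀ i, CommRing (B i)] [∀ i, Algebra A (B i)]
  [∀ i, Algebra (Localization.AtPrime (q i)) (B i)] [∀ i, IsScalarTower A (Localization.AtPrime (q i)) (B i)]

/-- The map to the generic fibre of `B i`. -/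
noncomputable def f (i : Fin r) : Localization.Away t →ₐ[A] Localization.Away (algebraMap A (B i) t) :=
  { IsLocalization.Away.lift t (g := algebraMap A (Localization.Away (algebraMap A (B i) t)))
      (by
        rw [IsScalarTower.algebraMap_apply A (B i) (Localization.Away (algebraMap A (B i) t))]
        exact IsLocalization.Away.algebraMap_isUnit _) with
    commutes' := fun a => IsLocalization.Away.lift_eq t _ a }

/-- The sections of the `B i`. -/
noncomputable def sects : Subalgebra A (Localization.Away t) :=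
  ⨅ i, ((IsScalarTower.toAlgHom A (B i) (Localization.Away (algebraMap A (B i) t))).range).comap (f t B i)

/-- `t ^ (-n)`. -/
noncomputable def invPow (n : ℕ) : Localization.Away t :=
  IsLocalization.mk' (Localization.Away t) (1 : A) (⟨t ^ n, n, rfl⟩ : Submonoid.powers t)

theorem pow_invPow (n : ℕ) : (t ^ n) • invPow t n = 1 := by
  rw [invPow, Algebra.smul_def]
  exact (IsLocalization.mk'_spec' (Localization.Away t) (1 : A) (⟨t ^ n, n, rfl⟩ : Submonoid.powers t)).trans (map_one _)

/-- The bounded sections. -/
noncomputable def bdd (n : ℕ) : Submodule A (Localization.Away t) :=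
  (sects t B).toSubmodule ⊓ Submodule.span A {invPow t n}

theorem bdd_fg (n : ℕ) : (bdd t B n).FG := by
  haveI : Module.Finite A (Submodule.span A {invPow t n}) := Module.Finite.span_of_finite A (Set.finite_singleton _)
  have h : bdd t B n ≤ Submodule.span A {invPow t n} := inf_le_right
  exact Submodule.FG.of_le (Submodule.fg_span_singleton _) h

theorem pow_smul_bdd {n : ℕ} {x : Localization.Away t} (hx : x ∈ bdd t B n) :
    ∃ a : A, t ^ n • x = algebraMap A _ a := by
  obtain ⟨a, rfl⟩ := Submodule.mem_span_singleton.1 hx.2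
  exact ⟨a, by rw [smul_comm, pow_invPow, Algebra.algebraMap_eq_smul_one]⟩

variable {t q B}

theorem mem_sects {x : Localization.Away t} :
    x ∈ sects t B ↔ ∀ i, ∃ b : B i, algebraMap (B i) (Localization.Away (algebraMap A (B i) t)) b = f t B i x := by
  simp only [sects, Algebra.mem_iInf]
  exact forall_congr' fun i => Iff.rfl

variable (hA : ringKrullDim A = 2) (htnz : t ∈ nonZeroDivisors A) (hinj : Function.Injective q)
  (hqm : ∀ i, q i ≠ maximalIdeal A) (htq : ∀ i, t ∈ q i)
  (hV : ∀ p : Ideal A, p.IsPrime → t ∈ p → p = maximalIdeal A ∨ ∃ i, p = q i)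
  (n : ℕ) (hcok : ∀ i (b : B i), t ^ n • b ∈ (algebraMap (Localization.AtPrime (q i)) (B i)).range)
  (hBinj : ∀ i, Function.Injective (algebraMap (Localization.AtPrime (q i)) (B i)))
  (htB : ∀ i, IsSMulRegular (B i) t)

include htB in
theorem ι_injective (i : Fin r) :
    Function.Injective (algebraMap (B i) (Localization.Away (algebraMap A (B i) t))) := by
  refine IsLocalization.injective (M := Submonoid.powers (algebraMap A (B i) t)) _
    (Submonoid.powers_le.2 (mem_nonZeroDivisors_iff_right.2 fun x hx => ?_))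
  refine htB i ?_
  show t • x = t • (0 : B i)
  rw [smul_zero, Algebra.smul_def, mul_comm, hx]

include hcok in
theorem exists_num (i : Fin r) (b : B i) : ∃ a s : A, s ∉ q i ∧ (s * t ^ n) • b = algebraMap A (B i) a := by
  obtain ⟨x, hx⟩ := hcok i b
  obtain ⟨a, s, rfl⟩ := IsLocalization.exists_mk'_eq (q i).primeCompl x
  refine ⟨a, s, s.2, ?_⟩
  rw [mul_smul, ← hx, Algebra.smul_def, IsScalarTower.algebraMap_apply A (Localization.AtPrime (q i)) (B i) (s : A),
    ← map_mul, mul_comm, IsLocalization.mk'_spec, ← IsScalarTower.algebraMap_apply]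

include hA htnz hqm htq hV in
theorem exists_pow_mem (j : Fin r) {u : A} (hu : u ∈ q j) :
    ∃ N w c, w ∉ q j ∧ u ^ N * w = t ^ n * c := by
  by_contra hcon
  push Not at hcon
  have hd : Disjoint (Ideal.span {t ^ n} : Set A)
      ((Submonoid.powers u ⊔ (q j).primeCompl : Submonoid A) : Set A) := by
    rw [Set.disjoint_left]
    intro x hx hx'
    obtain ⟨_, ⟨N, rfl⟩, w, hw, rfl⟩ := Submonoid.mem_sup.1 hx'
    obtain ⟨c, hc⟩ := Ideal.mem_span_singleton.1 hx
    exact hcon N w c hw hc
  obtain ⟨p, hp, hle, hdp⟩ := Ideal.exists_le_prime_disjoint _ _ hd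
  have htp : t ∈ p := hp.mem_of_pow_mem n (hle (Ideal.mem_span_singleton_self _))
  have hpq : p ≤ q j := fun x hx => by
    by_contra hxq
    exact Set.disjoint_left.1 hdp hx (Submonoid.mem_sup_right (hxq : x ∈ (q j).primeCompl))
  obtain rfl := eq_of_le hA htnz hp (hq j) (hqm j) htp hpq
  exact Set.disjoint_left.1 hdp hu (Submonoid.mem_sup_left (Submonoid.mem_powers u))

include hA htnz hinj hqm htq hV hcok in
theorem exists_preimage (i : Fin r) (b : B i) :
    ∃ x ∈ bdd t B n, ∃ s, s ∉ q i ∧ f t B i x = algebraMap (B i) _ (s • b) := by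
  classical
  obtain ⟨a, s, hs, hsa⟩ := exists_num n hcok i b
  have hne : ∀ j : {j // j ≠ i}, ∃ u ∈ q j, u ∉ q i := fun j => SetLike.not_le_iff_exists.1 fun hle =>
    j.2 (hinj (eq_of_le hA htnz (hq j) (hq i) (hqm i) (htq j) hle))
  choose u hu hui using hne
  choose N w c hw hwc using fun j : {j // j ≠ i} => exists_pow_mem hA htnz hqm htq hV n j.1 (hu j)
  let U := ∏ j, u j ^ N j
  have hU : U ∉ q i := fun h => by
    obtain ⟨j, -, hj⟩ := (Ideal.IsPrime.prod_mem_iff (hp := hq i)).1 h
    exact hui j ((hq i).mem_of_pow_mem _ hj)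
  let x0 := a • invPow t n
  have hx0 : f t B i x0 = algebraMap (B i) _ (s • b) := by
    have h1 : t ^ n • f t B i x0 = t ^ n • algebraMap (B i) (Localization.Away (algebraMap A (B i) t)) (s • b) := by
      have h2 : t ^ n • algebraMap (B i) (Localization.Away (algebraMap A (B i) t)) (s • b) =
          algebraMap A _ a := by
        rw [Algebra.smul_def, IsScalarTower.algebraMap_apply A (B i) _ (t ^ n), ← map_mul, ← Algebra.smul_def,
          smul_smul, mul_comm, hsa, ← IsScalarTower.algebraMap_apply]
      rw [← map_smul, smul_comm, pow_invPow, map_smul, map_one, h2]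
      exact (Algebra.algebraMap_eq_smul_one a).symm
    have hu : IsUnit (algebraMap A (Localization.Away (algebraMap A (B i) t)) (t ^ n)) := by
      rw [map_pow, IsScalarTower.algebraMap_apply A (B i) (Localization.Away (algebraMap A (B i) t))]
      exact (IsLocalization.Away.algebraMap_isUnit _).pow n
    rw [Algebra.smul_def, Algebra.smul_def] at h1
    exact hu.mul_left_cancel h1
  refine ⟨U • x0, ⟨mem_sects.2 fun j => ?_, Submodule.smul_mem _ U (Submodule.mem_span_singleton.2 ⟨a, rfl⟩)⟩,
    U * s, fun h => ((hq i).mem_or_mem h).elim hU hs, ?_⟩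
  · by_cases hj : j = i
    · subst hj
      exact ⟨U • (s • b), by rw [map_smul (f t B j), hx0, Algebra.smul_def U (s • b), map_mul,
        ← IsScalarTower.algebraMap_apply, ← Algebra.smul_def]⟩
    let j' : {j // j ≠ i} := ⟨j, hj⟩
    obtain ⟨U', hU'⟩ : u j' ^ N j' ∣ U := Finset.dvd_prod_of_mem (fun z => u z ^ N z) (Finset.mem_univ j')
    have hwu : IsUnit (algebraMap A (B j) (w j')) := by
      rw [IsScalarTower.algebraMap_apply A (Localization.AtPrime (q j)) (B j)]
      exact (IsLocalization.map_units (Localization.AtPrime (q j)) (⟨w j', hw j'⟩ : (q j).primeCompl)).map _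
    have hwx : w j' • (U • x0) = algebraMap A (Localization.Away t) (U' * (c j' * a)) := by
      rw [Algebra.algebraMap_eq_smul_one, ← pow_invPow t n]
      simp only [x0, smul_smul]
      congr 1
      have := hwc j'
      rw [hU']
      linear_combination (U' * a) * this
    refine ⟨algebraMap A (B j) (U' * (c j' * a)) * ↑hwu.unit⁻¹, ?_⟩
    refine (hwu.map (algebraMap (B j) (Localization.Away (algebraMap A (B j) t)))).mul_left_cancel ?_
    rw [← map_mul, mul_left_comm, IsUnit.mul_val_inv, mul_one, ← IsScalarTower.algebraMap_apply,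
      ← IsScalarTower.algebraMap_apply, ← Algebra.smul_def, ← map_smul, hwx, AlgHom.commutes]
  · rw [map_smul, hx0, Algebra.smul_def, IsScalarTower.algebraMap_apply A (B i) _ U, ← map_mul, ← Algebra.smul_def,
      smul_smul]

include hcok hBinj htB hA htnz hqm htq hV in
theorem exists_exp : ∃ K : ℕ, ∀ y ∈ maximalIdeal A ^ K, ∀ x ∈ bdd t B n, ∀ x' ∈ bdd t B n,
    y • (x * x') ∈ bdd t B n := by
  classical
  let P := bdd t B n * bdd t B n
  let I : Ideal A := (bdd t B n).colon (P : Set (Localization.Away t))
  have hP : ∀ z ∈ P, z ∈ sects t B ∧ ∃ c : A, z = c • (invPow t n * invPow t n) := by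
    intro z hz
    induction hz using Submodule.mul_induction_on' with
    | mem_mul_mem x hx y hy =>
      obtain ⟨a, rfl⟩ := Submodule.mem_span_singleton.1 hx.2
      obtain ⟨b, rfl⟩ := Submodule.mem_span_singleton.1 hy.2
      exact ⟨(sects t B).mul_mem hx.1 hy.1, a * b, by rw [smul_mul_smul_comm]⟩
    | add x _ y _ hx hy =>
      obtain ⟨hx, a, rfl⟩ := hx
      obtain ⟨hy, b, rfl⟩ := hy
      exact ⟨add_mem hx hy, a + b, by rw [add_smul]⟩
  have htI : t ^ n ∈ I := by
    refine Submodule.mem_colon.2 fun z hz => ?_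
    induction (SetLike.mem_coe.1 hz) using Submodule.mul_induction_on' with
    | mem_mul_mem x hx y hy =>
      obtain ⟨a, ha⟩ := pow_smul_bdd t B hx
      rw [← smul_mul_assoc, ha, ← Algebra.smul_def]
      exact Submodule.smul_mem _ a hy
    | add x hx' y hy' hx hy => rw [smul_add]; exact add_mem (hx hx') (hy hy')
  have hqI : ∀ i, ¬ I ≤ q i := by
    intro i hle
    obtain ⟨g, hg⟩ := (bdd_fg t B n).mul (bdd_fg t B n)
    have hex : ∀ z ∈ g, ∃ s, s ∉ q i ∧ s • z ∈ bdd t B n := by
      intro z hz
      obtain ⟨hzs, c, rfl⟩ := hP z (by show z ∈ bdd t B n * bdd t B n; rw [← hg]; exact Submodule.subset_span hz)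
      obtain ⟨b, hb⟩ := mem_sects.1 hzs i
      obtain ⟨a, s, hs, hsa⟩ := exists_num n hcok i b
      let Λ := Localization.Away (algebraMap A (B i) t)
      have hfz : algebraMap A Λ c = (t ^ n * t ^ n) • f t B i (c • (invPow t n * invPow t n)) := by
        rw [← map_smul, smul_comm, ← smul_mul_smul_comm, pow_invPow, mul_one, map_smul, map_one,
          Algebra.algebraMap_eq_smul_one]
      have heq : algebraMap A (B i) (s * c) = algebraMap A (B i) (t ^ n * a) := by
        refine ι_injective htB i ?_
        rw [← IsScalarTower.algebraMap_apply, map_mul, hfz, ← hb, map_mul (algebraMap A (B i)), ← hsa, map_mul,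
          ← IsScalarTower.algebraMap_apply, Algebra.smul_def, Algebra.smul_def, map_mul (algebraMap (B i) Λ),
          ← IsScalarTower.algebraMap_apply, map_mul, map_mul]
        ring
      rw [IsScalarTower.algebraMap_apply A (Localization.AtPrime (q i)) (B i),
        IsScalarTower.algebraMap_apply A (Localization.AtPrime (q i)) (B i)] at heq
      obtain ⟨⟨v, hv⟩, hv'⟩ := IsLocalization.exists_of_eq (M := (q i).primeCompl) (hBinj i heq)
      refine ⟨v * s, fun h => ((hq i).mem_or_mem h).elim hv hs, Submodule.smul_mem _ _ hzs, ?_⟩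
      refine Submodule.mem_span_singleton.2 ⟨v * a, ?_⟩
      rw [smul_smul, mul_assoc, hv', show v * (t ^ n * a) = (v * a) * t ^ n by ring,
        mul_smul (v * a) (t ^ n), ← smul_mul_assoc, pow_invPow, one_mul]
    choose s hs hsz using hex
    let S := ∏ z ∈ g.attach, s z.1 z.2
    have hSI : S ∈ I := by
      refine Submodule.mem_colon.2 fun z hz => ?_
      rw [SetLike.mem_coe, show P = Submodule.span A (g : Set _) from hg.symm] at hz
      induction hz using Submodule.span_induction with
      | mem z hz =>
        obtain ⟨c, hc⟩ : s z hz ∣ S := Finset.dvd_prod_of_mem (fun y : {y // y ∈ g} => s y.1 y.2) (Finset.mem_attach g ⟨z, hz⟩)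
        rw [hc, mul_comm, mul_smul]
        exact Submodule.smul_mem _ c (hsz z hz)
      | zero => rw [smul_zero]; exact zero_mem _
      | add x y _ _ hx hy => rw [smul_add]; exact add_mem hx hy
      | smul c x _ hx => rw [smul_comm]; exact Submodule.smul_mem _ c hx
    obtain ⟨z, -, hz⟩ := (Ideal.IsPrime.prod_mem_iff (hp := hq i)).1 (hle hSI)
    exact hs z.1 z.2 hz
  have hrad : maximalIdeal A ≤ I.radical := by
    rw [Ideal.radical_eq_sInf]
    refine le_sInf fun p hp => ?_
    rcases hV p hp.2 (hp.2.mem_of_pow_mem n (hp.1 htI)) with rfl | ⟨i, rfl⟩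
    · exact le_rfl
    · exact absurd hp.1 (hqI i)
  obtain ⟨K, hK⟩ := Ideal.exists_pow_le_of_le_radical_of_fg hrad (IsNoetherian.noetherian _)
  exact ⟨K, fun y hy x hx x' hx' => Submodule.mem_colon.1 (hK hy) _ (Submodule.mul_mem_mul hx hx')⟩

variable (t B) in
/-- The sum of `A` and the multiples of the bounded sections. -/
noncomputable def carrierModule (K : ℕ) : Submodule A (Localization.Away t) :=
  LinearMap.range (Algebra.linearMap A (Localization.Away t)) ⊔ maximalIdeal A ^ K • bdd t B n

theorem smul_bdd_le (K : ℕ) : maximalIdeal A ^ K • bdd t B n ≤ bdd t B n := Submodule.smul_le_right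

include hA htnz hinj hqm htq hV hcok hBinj htB in
theorem exists_glue : ∃ C : Subalgebra A (Localization.Away t), Module.Finite A C ∧
    Function.Injective (algebraMap A C) ∧ (∀ y ∈ Ideal.span {t} ^ n, ∀ c : C, y • c ∈ (algebraMap A C).range) ∧
    ∀ i, ∃ ψ : C →ₐ[A] B i, IsBaseChange (Localization.AtPrime (q i)) ψ.toLinearMap := by
  classical
  obtain ⟨K, hK⟩ := exists_exp hA htnz hqm htq hV n hcok hBinj htB
  let S := carrierModule t B n K
  have hone : (1 : Localization.Away t) ∈ S :=
    Submodule.mem_sup_left ⟨1, (Algebra.linearMap_apply A _ 1).trans (map_one _)⟩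
  have hA' : ∀ a, algebraMap A (Localization.Away t) a ∈ S := fun a => Submodule.mem_sup_left ⟨a, rfl⟩
  have hsmul : ∀ y ∈ maximalIdeal A ^ K • bdd t B n, ∀ y' ∈ maximalIdeal A ^ K • bdd t B n,
      y * y' ∈ maximalIdeal A ^ K • bdd t B n := by
    intro y hy y' hy'
    refine Submodule.smul_induction_on hy (fun c hc x hx => ?_) fun a b ha hb => by rw [add_mul]; exact add_mem ha hb
    rw [smul_mul_assoc]
    refine Submodule.smul_mem_smul hc ?_
    refine Submodule.smul_induction_on hy' (fun c' hc' x' hx' => ?_) fun a b ha hb => by rw [mul_add]; exact add_mem ha hb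
    rw [mul_smul_comm]; exact hK c' hc' x hx x' hx'
  have hmul : ∀ x y, x ∈ S → y ∈ S → x * y ∈ S := by
    intro x y hx hy
    obtain ⟨_, ⟨a, rfl⟩, x', hx', rfl⟩ := Submodule.mem_sup.1 hx
    obtain ⟨_, ⟨b, rfl⟩, y', hy', rfl⟩ := Submodule.mem_sup.1 hy
    simp only [Algebra.linearMap_apply]
    rw [add_mul, mul_add, mul_add, ← map_mul, ← Algebra.smul_def, mul_comm x' (algebraMap A _ b), ← Algebra.smul_def]
    exact add_mem (add_mem (hA' _) (Submodule.smul_mem _ _ (Submodule.mem_sup_right hy')))
      (add_mem (Submodule.smul_mem _ _ (Submodule.mem_sup_right hx')) (Submodule.mem_sup_right (hsmul _ hx' _ hy')))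
  let C := S.toSubalgebra hone hmul
  have hCmem : ∀ x : Localization.Away t, x ∈ C ↔ x ∈ S := fun x => Iff.rfl
  have hCsects : C ≤ sects t B := fun x hx => by
    obtain ⟨_, ⟨a, rfl⟩, x', hx', rfl⟩ := Submodule.mem_sup.1 ((hCmem x).1 hx)
    exact add_mem ((sects t B).algebraMap_mem a) (smul_bdd_le n K hx').1
  refine ⟨C, ?_, ?_, ?_, fun i => ?_⟩
  · refine Module.Finite.iff_fg.2 (?_ : S.FG)
    refine Submodule.FG.sup ?_ ((bdd_fg t B n).of_le (smul_bdd_le n K))
    rw [LinearMap.range_eq_map]
    exact (IsNoetherian.noetherian (⊤ : Submodule A A)).map _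
  · intro a b h
    exact IsLocalization.injective (Localization.Away t) (Submonoid.powers_le.2 htnz) (congrArg Subtype.val h)
  · intro y hy c
    rw [Ideal.span_singleton_pow] at hy
    obtain ⟨s, rfl⟩ := Ideal.mem_span_singleton'.1 hy
    obtain ⟨_, ⟨a, rfl⟩, x', hx', hc⟩ := Submodule.mem_sup.1 ((hCmem c.1).1 c.2)
    obtain ⟨a', ha'⟩ := pow_smul_bdd t B (smul_bdd_le n K hx')
    refine ⟨s * (t ^ n * a + a'), Subtype.ext ?_⟩
    show algebraMap A (Localization.Away t) _ = (s * t ^ n) • c.1
    rw [← hc, mul_smul, smul_add, ha', Algebra.linearMap_apply, Algebra.smul_def (t ^ n), ← map_mul, ← map_add,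
      Algebra.smul_def, ← map_mul]
  · let ι := IsScalarTower.toAlgHom A (B i) (Localization.Away (algebraMap A (B i) t))
    let e := AlgEquiv.ofInjective ι (ι_injective htB i)
    let g : C →ₐ[A] ι.range := ((f t B i).comp C.val).codRestrict ι.range fun x => by
      obtain ⟨b, hb⟩ := mem_sects.1 (hCsects x.2) i
      exact ⟨b, hb⟩
    let ψ : C →ₐ[A] B i := e.symm.toAlgHom.comp g
    have hψ : ∀ x : C, algebraMap (B i) (Localization.Away (algebraMap A (B i) t)) (ψ x) = f t B i x.1 := fun x =>
      congrArg Subtype.val (e.apply_symm_apply (g x))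
    refine ⟨ψ, ?_⟩
    haveI : IsLocalizedModule (q i).primeCompl ψ.toLinearMap :=
      { map_units := fun s => by
          rw [Module.End.isUnit_iff]
          have hu : IsUnit (algebraMap A (B i) (s : A)) := by
            rw [IsScalarTower.algebraMap_apply A (Localization.AtPrime (q i)) (B i)]
            exact (IsLocalization.map_units (Localization.AtPrime (q i)) s).map _
          obtain ⟨v, hv⟩ := hu
          constructor
          · intro x y e
            simp only [Module.algebraMap_end_apply, Algebra.smul_def, ← hv] at e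
            exact v.isUnit.mul_left_cancel e
          · intro y
            exact ⟨(↑v⁻¹ : B i) * y, by
              simp only [Module.algebraMap_end_apply, Algebra.smul_def, ← hv, ← mul_assoc, Units.mul_inv, one_mul]⟩
        surj := fun b => by
          obtain ⟨x, hx, s, hs, hxs⟩ := exists_preimage hA htnz hinj hqm htq hV n hcok i b
          obtain ⟨v, hv, hvq⟩ := SetLike.not_le_iff_exists.1 fun hle : maximalIdeal A ≤ q i =>
            hqm i (le_antisymm (le_maximalIdeal (hq i).ne_top) hle)
          have hmem : v ^ K • x ∈ C :=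
            Submodule.mem_sup_right (Submodule.smul_mem_smul (Ideal.pow_mem_pow hv K) hx)
          refine ⟨⟨⟨_, hmem⟩, ⟨v ^ K * s, fun h => ((hq i).mem_or_mem h).elim
            (fun h => hvq ((hq i).mem_of_pow_mem _ h)) hs⟩⟩, ?_⟩
          refine ι_injective htB i ?_
          refine Eq.trans ?_ (hψ ⟨_, hmem⟩).symm
          show algebraMap (B i) _ ((v ^ K * s) • b) = f t B i (v ^ K • x)
          rw [mul_smul, map_smul (f t B i), hxs, Algebra.smul_def (v ^ K) (s • b), map_mul,
            ← IsScalarTower.algebraMap_apply, ← Algebra.smul_def]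
        exists_of_eq := fun {x y} hxy => by
          have h0 : f t B i (x.1 - y.1) = 0 := by
            rw [map_sub, ← hψ, ← hψ, show ψ x = ψ y from hxy, sub_self]
          obtain ⟨k, a, ha⟩ : ∃ (k : ℕ) (a : A), t ^ k • (x.1 - y.1) = algebraMap A _ a := by
            obtain ⟨a, ⟨_, k, rfl⟩, h⟩ := IsLocalization.exists_mk'_eq (Submonoid.powers t) (x.1 - y.1)
            exact ⟨k, a, by rw [← h, Algebra.smul_def]; exact IsLocalization.mk'_spec' (Localization.Away t) a (⟨t ^ k, k, rfl⟩ : Submonoid.powers t)⟩
          have h1 : algebraMap A (B i) a = 0 := by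
            refine ι_injective htB i ?_
            rw [← IsScalarTower.algebraMap_apply, map_zero, ← (f t B i).commutes a, ← ha, map_smul, h0, smul_zero]
          rw [IsScalarTower.algebraMap_apply A (Localization.AtPrime (q i)) (B i),
            map_eq_zero_iff _ (hBinj i), IsLocalization.map_eq_zero_iff (q i).primeCompl] at h1
          obtain ⟨⟨s, hs⟩, hs0⟩ := h1
          refine ⟨⟨s, hs⟩, Subtype.ext ?_⟩
          show s • x.1 = s • y.1
          rw [← sub_eq_zero, ← smul_sub]
          have hu : IsUnit (algebraMap A (Localization.Away t) (t ^ k)) := by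
            rw [map_pow]; exact (IsLocalization.Away.algebraMap_isUnit t).pow k
          refine hu.mul_right_eq_zero.1 ?_
          rw [← Algebra.smul_def, smul_comm, ha, Algebra.smul_def, ← map_mul, hs0, map_zero] }
    exact (isLocalizedModule_iff_isBaseChange (q i).primeCompl (Localization.AtPrime (q i)) _).1 inferInstance

end Groth.Agent.Glue50.Punctured
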